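import Cfsg.Agent.Lib.SU4.G2a
import Cfsg.Agent.Lib.Transfer.Criteria
import Cfsg.Agent.Lib.Coprime.Generation

/-!
# S5210, `q = 2`: subgroups of `GL₄(2)` with the Sylow `2`-subgroup `T = {TM x y}` (a finite computation)

Checked by computer: `|C(T)| = 8`, `|N(T)| = 48`, `|C(t)| = 96` for `1 ≠ t ∈ T`.  For each `t` exactly two subgroups `Y` with `T < Y ≤ C(t)`, `Y ⊄ N(T)`, `8 ∤ |Y|`
exist, both of order `12`, `Y = ⟨T, o⟩` with `o³ = 1`:
`t = TM 0 1`: `o = !![1,0,1,1; 0,0,0,1; 1,1,0,1; 0,1,0,1]` or `!![0,1,1,1; 0,1,0,1; 1,1,1,0; 0,1,0,0]` (vertices 0, 1);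
`t = TM 1 0`: `!![1,1,0,1; 1,0,1,1; 0,0,0,1; 0,0,1,1]` or `!![1,1,1,1; 1,0,1,0; 0,0,0,1; 0,0,1,1]` (2, 3);
`t = TM 1 1`: `!![0,0,1,1; 1,0,1,0; 1,1,0,1; 0,1,1,0]` or `!![1,1,0,1; 1,1,1,1; 1,1,1,0; 0,1,1,1]` (4, 5).
The pairs on the hexagon `0-2-5-1-3-4-0` generate groups of order `36`, the other pairs groups of order `48` or `120` (so there is a word in `N(T) \ T` of
`2`-power order).  `⟨kaM, d3M⟩` is cyclic of order `6` and regular on the edges of the hexagon.  If `N_X(T) = T`, Burnside's theorem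
(`MonoidHom.ker_transferSylow_isComplement'`) gives `X = O T` with `O` normal of odd order, and `O` is generated by the `C_O(t)` (coprime action of a
four-group), so `X` is generated by the `C_X(t)`.
-/

set_option autoImplicit false

namespace Cfsg.Lib.SU4.G2

open Matrix

/-- matrices acting on `(a, b₀, b₁, c)`, `b = b₀ + b₁ ω` -/
abbrev M4 := Matrix (Fin 4) (Fin 4) (ZMod 2)
/-- the general linear group -/
abbrev G4 := GL (Fin 4) (ZMod 2)

/-- the action of `t = x + y ω` -/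
def TM (x y : ZMod 2) : M4 := !![1, y, x, x + y + x * y; 0, 1, 0, x; 0, 0, 1, y; 0, 0, 0, 1]
/-- `a ↦ a + c` -/
def kaM : M4 := !![1, 0, 0, 1; 0, 1, 0, 0; 0, 0, 1, 0; 0, 0, 0, 1]
/-- `b ↦ ω b` -/
def d3M : M4 := !![1, 0, 0, 0; 0, 0, 1, 0; 0, 1, 1, 0; 0, 0, 0, 1]

/-- members of `T` -/
def IsT (g : M4) : Prop := ∃ x y, g = TM x y
/-- `g` normalizes `T` -/
def IsN (g : M4) : Prop := ∀ x y, ∃ x' y', g * TM x y = TM x' y' * g

/-- the hypotheses -/
structure H2 (X : Subgroup G4) : Prop where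
  le : ∀ g : G4, IsT g.1 → g ∈ X
  syl : ¬ 8 ∣ Nat.card X
  nt : ∃ g ∈ X, ¬ IsN g.1 ∧ ∃ x y, (x ≠ 0 ∨ y ≠ 0) ∧ g.1 * TM x y = TM x y * g.1

/-- no involution of `T` is central -/
def Al (X : Subgroup G4) : Prop := ∀ x y, (x ≠ 0 ∨ y ≠ 0) → ∃ g ∈ X, g.1 * TM x y ≠ TM x y * g.1

variable {X Y : Subgroup G4}

open MK Subgroup

/-- the unit `TM x y` -/
def tu (x y : ZMod 2) : G4 := ⟨TM x y, TM x y, by revert x y; decide, by revert x y; decide⟩
/-- the vertices -/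
def oM : Fin 6 → M4 := ![!![1,0,1,1; 0,0,0,1; 1,1,0,1; 0,1,0,1], !![0,1,1,1; 0,1,0,1; 1,1,1,0; 0,1,0,0],
  !![1,1,0,1; 1,0,1,1; 0,0,0,1; 0,0,1,1], !![1,1,1,1; 1,0,1,0; 0,0,0,1; 0,0,1,1], !![0,0,1,1; 1,0,1,0; 1,1,0,1; 0,1,1,0],
  !![1,1,0,1; 1,1,1,1; 1,1,1,0; 0,1,1,1]]
/-- the vertices as units -/
def ou (k : Fin 6) : G4 := ⟨oM k, oM k * oM k, by revert k; decide +kernel, by revert k; decide +kernel⟩
/-- `kaM` -/
def ku : G4 := ⟨kaM, kaM, by decide, by decide⟩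
/-- `d3M` -/
def du : G4 := ⟨d3M, d3M * d3M, by decide, by decide⟩
/-- the code -/
def cd (g : G4) : ℕ := enc g.1

theorem ou_sq (k : Fin 6) : ou k * ou k = (ou k)⁻¹ := Units.ext rfl

theorem cd_mul (a b : G4) : ml2 (cd a) (cd b) = cd (a * b) := enc_mul2 _ _

theorem cd_beq (a b : G4) : (cd a).beq (cd b) = true ↔ a = b :=
  Nat.beq_eq.to_iff.trans ⟨fun h => Units.ext (enc_inj (n := 1) (by omega) h), congrArg _⟩

theorem e0 : c0 = cd 1 := by decide +kernel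
theorem e1 : c1 = cd (tu 0 1) := by decide +kernel
theorem e2 : c2 = cd (tu 1 0) := by decide +kernel
theorem e3 : c3 = cd (tu 1 1) := by decide +kernel
theorem eo : ∀ k : Fin 6, os.getD k 0 = cd (ou k) := by decide +kernel
theorem eos : os = [cd (ou 0), cd (ou 1), cd (ou 2), cd (ou 3), cd (ou 4), cd (ou 5)] := by decide +kernel
theorem sq_cd (a : G4) : sq (cd a) = cd (a * a) := cd_mul a a
theorem p3_cd (a : G4) : p3 (cd a) = cd (a * (a * a)) := by rw [p3, sq_cd, cd_mul]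

theorem pw_cd (a : G4) : ∀ n, pw (cd a) n = cd (a ^ n)
  | 0 => e0
  | n + 1 => by rw [pw, pw_cd a n, cd_mul, pow_succ]

theorem nc_cd (i j : ℕ) : nc i j = cd (ku ^ i * du ^ j) := by
  rw [← cd_mul, ← pw_cd, ← pw_cd, show cd ku = 0x1000000000100000000010001000001 by decide +kernel,
    show cd du = 0x1000000000101000001000000000001 by decide +kernel, nc]

theorem tm_mul : ∀ x y x' y', TM x y * TM x' y' = TM (x + x') (y + y') := by decide +kernel

/-- the group `T` -/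
def T4 : Subgroup G4 where
  carrier := {g | IsT g.1}
  mul_mem' := fun ⟨_, _, h⟩ ⟨_, _, h'⟩ => ⟨_, _, by rw [Units.val_mul, h, h', tm_mul]⟩
  one_mem' := ⟨0, 0, by decide⟩
  inv_mem' := fun {g} ⟨x, y, h⟩ => ⟨x, y, by rw [show g = tu x y from Units.ext h]; rfl⟩

theorem tu_mem (x y : ZMod 2) : tu x y ∈ T4 := ⟨x, y, rfl⟩

theorem tu_cases (x y : ZMod 2) : tu x y = 1 ∨ tu x y = tu 0 1 ∨ tu x y = tu 1 0 ∨ tu x y = tu 1 1 := by
  revert x y; decide

theorem mem_T {g : G4} : g ∈ T4 ↔ ((g = 1 ∨ g = tu 0 1) ∨ g = tu 1 0) ∨ g = tu 1 1 :=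
  ⟨fun ⟨x, y, h⟩ => by simpa only [or_assoc, ← show g = tu x y from Units.ext h] using tu_cases x y, by
    rintro (((rfl | rfl) | rfl) | rfl)
    exacts [one_mem _, tu_mem _ _, tu_mem _ _, tu_mem _ _]⟩

theorem inT_cd (g : G4) : inT (cd g) = true ↔ g ∈ T4 := by simp only [inT, e0, e1, e2, e3, Bool.or_eq_true, cd_beq, mem_T]

theorem nm_cd (g t : G4) : nm (cd g) (cd t) = true ↔ g * t * g⁻¹ ∈ T4 := by
  simp only [nm, e0, e1, e2, e3, Bool.or_eq_true, cd_mul, cd_beq, mem_T, mul_inv_eq_iff_eq_mul]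

theorem isN_iff {g : G4} : IsN g.1 ↔ g ∈ normalizer (T4 : Set G4) :=
  ⟨fun h => mem_normalizer_fintype (S := (T4 : Set G4)) fun u ⟨x, y, e⟩ => let ⟨x', y', e'⟩ := h x y
    ⟨x', y', by rw [Units.val_mul, Units.val_mul, e, e', Units.mul_inv_cancel_right]⟩, fun h x y =>
    let ⟨x', y', e⟩ := (h (tu x y)).1 (tu_mem x y)
    ⟨x', y', by rw [← e, ← Units.val_mul, inv_mul_cancel_right]; rfl⟩⟩

theorem isN_cd (g : G4) : isN (cd g) = true ↔ g ∈ normalizer (T4 : Set G4) := by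
  simp only [isN, e1, e2, e3, Bool.and_eq_true, nm_cd]
  refine ⟨fun h => mem_normalizer_fintype (S := (T4 : Set G4)) fun u hu => ?_, fun h =>
    ⟨⟨(h _).1 (tu_mem _ _), (h _).1 (tu_mem _ _)⟩, (h _).1 (tu_mem _ _)⟩⟩
  rcases mem_T.1 hu with ((rfl | rfl) | rfl) | rfl
  exacts [by simp, h.1.1, h.1.2, h.2]

theorem card_T : Nat.card T4 = 2 ^ 2 := (Nat.card_congr (Equiv.ofBijective (fun v : ZMod 2 × ZMod 2 => (⟨tu v.1 v.2, tu_mem _ _⟩ : T4))
  ⟨fun v w e => Prod.ext (congrArg (fun g : T4 => g.1.1 0 2) e) (congrArg (fun g : T4 => g.1.1 0 1) e),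
    fun ⟨_, x, y, e⟩ => ⟨(x, y), Subtype.ext (Units.ext e.symm)⟩⟩)).symm.trans (by simp)

theorem H2.syl' (h : H2 X) : ¬ 2 ∣ T4.relIndex X := fun e => h.syl (by
  have := card_mul_index (T4.subgroupOf X)
  rw [Nat.card_congr (subgroupOfEquivOfLe h.le).toEquiv, card_T] at this
  rw [relIndex] at e
  omega)

theorem H2.nbad (h : H2 X) {g : G4} (hg : g ∈ X) : bad (cd g) = false := Bool.eq_false_iff.2 fun e => by
  simp only [bad, Bool.and_eq_true, isN_cd, sq_cd, e0, cd_beq, Bool.not_eq_true', ← Bool.not_eq_true, inT_cd] at e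
  have e4 : g ^ 4 = 1 := by rw [← e.1.2]; simp [pow_succ, mul_assoc]
  refine e.2 ((Transfer.eq_of_not_dvd_relIndex_of_le h.syl' ((IsPGroup.of_card card_T).to_sup_of_normal_left' (K := zpowers g)
    (fun ⟨_, m, rfl⟩ => ⟨2, Subtype.ext (show (g ^ m) ^ 4 = 1 by
      rw [← zpow_natCast, ← _root_.zpow_mul, mul_comm, _root_.zpow_mul, zpow_natCast, e4, _root_.one_zpow])⟩) (zpowers_le.2 e.1.1))
    (sup_le h.le (zpowers_le.2 hg)) le_sup_left).ge (mem_sup_right (mem_zpowers g)))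

theorem H2.tm (h : H2 X) (x y : ZMod 2) : tu x y ∈ X := h.le _ ⟨x, y, rfl⟩

theorem H2.nbad2 (h : H2 X) {a b : G4} (ha : a ∈ X) (hb : b ∈ X) : bad2 (cd a) (cd b) = false := by
  simp only [bad2, e2, cd_mul, sq_cd, Bool.or_eq_false_iff]
  refine ⟨?_, ?_⟩ <;> refine h.nbad ?_ <;> apply_rules [mul_mem, h.tm]

theorem H2.nbad1 (h : H2 X) {a : G4} (ha : a ∈ X) : bad1 (cd a) = false := by
  simp only [bad1, e1, e2, e3, cd_mul, sq_cd, p3_cd, Bool.or_eq_false_iff]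
  refine ⟨⟨⟨⟨⟨?_, ?_⟩, ?_⟩, ?_⟩, ?_⟩, ?_⟩ <;> refine h.nbad ?_ <;> apply_rules [mul_mem, h.tm]

theorem sing_cd (g : G4) : sing (cd g) = false := by
  have : g ^ 20160 = 1 := by
    have := pow_card_eq_one' (x := g)
    rwa [Matrix.card_GL_field, show ∏ i : Fin 4, (Fintype.card (ZMod 2) ^ 4 - Fintype.card (ZMod 2) ^ (i : ℕ)) = 20160 by
      simp [Fin.prod_univ_four]] at this
  rw [← pow_one g, sing]
  simp only [sq_cd, p3_cd, cd_mul, ← pow_add, Nat.reduceAdd, this, e0, Bool.not_eq_false', cd_beq]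

/-- `g ∈ T o^±1` -/
def Vx (g : G4) (k : Fin 6) : Prop := g * ou k ∈ T4 ∨ g * (ou k * ou k) ∈ T4

theorem Vx.iff {g : G4} {k : Fin 6} (v : Vx g k) {H : Subgroup G4} (l : T4 ≤ H) : g ∈ H ↔ ou k ∈ H := by
  rcases v with v | v
  · exact ⟨fun h => (mul_mem_cancel_left h).1 (l v), fun h => (mul_mem_cancel_right h).1 (l v)⟩
  · rw [ou_sq] at v
    exact ⟨fun h => inv_mem_iff.1 ((mul_mem_cancel_left h).1 (l v)), fun h => (mul_mem_cancel_right (inv_mem h)).1 (l v)⟩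

theorem H2.cent (h : H2 X) {g t : G4} (hg : g ∈ X) (ht : t ∈ T4) (t1 : t ≠ 1) (e : g * t = t * g) :
    g ∈ normalizer (T4 : Set G4) ∨ ∃ k, Vx g k := by
  have := chk_enc g.1
  change chk (cd g) = true at this
  simp only [chk, cen, vx, eos, List.getD_cons_zero, List.getD_cons_succ, e1, e2, e3, cd_mul, sq_cd,
    Bool.or_eq_true, Bool.and_eq_true, Bool.not_eq_true', ← Bool.not_eq_true, cd_beq, isN_cd, inT_cd, sing_cd, h.nbad1 hg, or_false,
    Bool.false_eq_true] at this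
  rcases mem_T.1 ht with ((rfl | rfl) | rfl) | rfl
  · exact absurd rfl t1
  all_goals
    simp only [e, true_or, or_true, not_true, false_or] at this
    first
    | exact this.1.1.1.elim (fun h => h.imp_right fun h => ⟨_, h⟩) fun h => .inr ⟨_, h⟩
    | exact this.1.1.2.elim (fun h => h.imp_right fun h => ⟨_, h⟩) fun h => .inr ⟨_, h⟩
    | exact this.1.2.elim (fun h => h.imp_right fun h => ⟨_, h⟩) fun h => .inr ⟨_, h⟩

theorem H2.vertex (h : H2 X) : ∃ k, ou k ∈ X := by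
  obtain ⟨g, hg, n, x, y, h1, e⟩ := h.nt
  obtain ⟨k, v⟩ := (h.cent hg (tu_mem x y) (by clear e; revert x y; decide) (Units.ext e)).resolve_left (mt isN_iff.2 n)
  exact ⟨k, (v.iff h.le).1 hg⟩

theorem H2.norm (h : H2 X) {g : G4} (hg : g ∈ X) (n : g ∈ normalizer (T4 : Set G4)) : g ∈ T4 := by
  obtain ⟨k, hk⟩ := h.vertex
  have := chk_enc g.1
  change chk (cd g) = true at this
  simp only [chk, nrm, e1, p3_cd, Bool.or_eq_true, Bool.and_eq_true, Bool.not_eq_true', ← Bool.not_eq_true, isN_cd, inT_cd, sing_cd,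
    nm_cd, show g * tu 0 1 * g⁻¹ ∈ T4 from (n _).1 (tu_mem 0 1), n, or_true, not_true, false_or, h.nbad hg,
    h.nbad (mul_mem hg (mul_mem hg hg)), or_false, List.all_eq_true, Bool.false_eq_true] at this
  refine this.2.resolve_right fun e => ?_
  have := e (cd (ou k)) (by rw [eos]; fin_cases k <;> simp)
  rw [cd_mul, sq_cd, cd_mul, h.nbad2 hk (by apply_rules [mul_mem])] at this
  exact Bool.false_ne_true this

/-- `N(T) / C(T) = S₃`; an element acting with order `3` would give three vertices, and the hexagon has no triangle -/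
theorem norm_eq (h : H2 X) {g : G4} (hg : g ∈ X) (n : IsN g.1) : IsT g.1 := h.norm hg (isN_iff.1 n)

theorem comm_T : IsMulCommutative T4 := ⟨⟨fun ⟨_, _, _, h⟩ ⟨_, _, _, h'⟩ => Subtype.ext (Units.ext (by
  simp only [coe_mul, Units.val_mul, h, h', tm_mul, add_comm]))⟩⟩

theorem H2.gen (h : H2 X) {H : Subgroup G4} (l : T4 ≤ H) (e : ∀ k, ou k ∈ X → ou k ∈ H) : X ≤ H := by
  obtain ⟨P, hP⟩ := Transfer.exists_sylow_of_not_dvd_relIndex (IsPGroup.of_card card_T) h.syl'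
  obtain ⟨N, hN, c⟩ := (Transfer.hasNormalPComplement_iff_sylow P).1 (Transfer.hasNormalPComplement_subgroup_of_normalizer_le
    (IsPGroup.of_card card_T) h.syl' h.le fun g hg => le_centralizer_iff_isMulCommutative.2 comm_T (h.norm hg.1 hg.2))
  have h1 : N.map X.subtype ≤ H := Coprime.le_of_forall_centralizer_le comm_T (fun hc => by
      obtain ⟨⟨g, hg⟩, e⟩ := hc.exists_ofOrder_eq_natCard
      have : g ^ 2 = 1 := by rcases mem_T.1 hg with ((rfl | rfl) | rfl) | rfl <;> decide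
      have := orderOf_dvd_of_pow_eq_one (show (⟨g, hg⟩ : T4) ^ 2 = 1 from Subtype.ext this)
      rw [e, card_T] at this
      omega)
    (fun t ht => mem_normalizer_fintype (S := (N.map X.subtype : Set G4)) (by
      rintro _ ⟨n, hn, rfl⟩; exact ⟨_, hN.conj_mem n hn ⟨t, h.le t ht⟩, rfl⟩))
    (by
      rw [card_T, card_map_of_injective X.subtype_injective, ← c.index_eq_card, hP]
      exact ((Nat.Prime.coprime_iff_not_dvd Nat.prime_two).2 h.syl').pow_left 2) (by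
      rintro t ht t1 _ ⟨⟨g, -, rfl⟩, hg⟩
      exact (h.cent g.2 ht t1 (hg t rfl).symm).elim (fun n => l (h.norm g.2 n)) fun ⟨k, v⟩ => (v.iff l).2 (e k ((v.iff h.le).1 g.2)))
  intro g hg
  obtain ⟨⟨a, b⟩, e⟩ := c.2 ⟨g, hg⟩
  rw [← show a.1.1 * b.1.1 = g from congrArg Subtype.val e]
  exact mul_mem (h1 ⟨a, a.2, rfl⟩) (l (hP.le b.2))

theorem H2.edge (h : H2 X) (a : Al X) : ∃ k k', adj k k' ∧ ou k ∈ X ∧ ou k' ∈ X ∧ ∀ m, ou m ∈ X → m = k ∨ m = k' := by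
  have p : ∀ k k', ou k ∈ X → ou k' ∈ X → k = k' ∨ adj k k' := fun k k' hk hk' =>
    (or_assoc.2 (pairs k k')).resolve_right (by rw [eo, eo, h.nbad2 hk hk']; exact Bool.false_ne_true)
  obtain ⟨k, hk⟩ := h.vertex
  obtain ⟨x, y, h1, e⟩ := (by decide +kernel : ∀ k, ∃ x y, (x ≠ 0 ∨ y ≠ 0) ∧ TM x y * oM k = oM k * TM x y) k
  obtain ⟨g, hg, n⟩ := a x y h1
  obtain ⟨k', hk', ne⟩ : ∃ k', ou k' ∈ X ∧ k ≠ k' := by
    by_contra! c
    refine n (congrArg Units.val (h.gen (H := centralizer {tu x y}) ?_ (fun m hm => ?_) hg _ rfl)).symm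
    · exact (le_centralizer_iff_isMulCommutative.2 comm_T).trans (centralizer_le (Set.singleton_subset_iff.2 (tu_mem x y)))
    · rintro _ rfl
      exact c m hm ▸ Units.ext e
  have ad := (p k k' hk hk').resolve_left ne
  exact ⟨k, k', ad, hk, hk', fun m hm => (p m k hm hk).imp_right fun e => (p m k' hm hk').resolve_right (no_tri k k' m ad e)⟩

theorem rel_cd {n : G4} {a b : Fin 6} (r : rel (cd n) a b = true) (H : Subgroup G4) :
    (ou b ∈ H → n * ou a * n⁻¹ ∈ H) ∧ (ou a ∈ H → n⁻¹ * ou b * n⁻¹⁻¹ ∈ H) := by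
  simp only [rel, eo, sq_cd, cd_mul, Bool.or_eq_true, cd_beq, ou_sq] at r
  rcases r with r | r
  · exact ⟨fun h => by simpa [r] using h, fun h => by simpa [mul_assoc, ← r] using h⟩
  · refine ⟨fun h => by simpa [r] using h, fun h => inv_mem_iff.1 ?_⟩
    simpa [mul_assoc, ← r] using h

theorem uniq (h : H2 X) (h' : H2 Y) (a : Al X) (a' : Al Y) :
    ∃ (n : G4) (i j : ℕ), n.1 = kaM ^ i * d3M ^ j ∧ ∀ g, g ∈ Y ↔ n⁻¹ * g * n ∈ X := by
  obtain ⟨k, m, ad, hk, hm, e⟩ := h.edge a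
  obtain ⟨k', m', ad', hk', hm', e'⟩ := h'.edge a'
  obtain ⟨i, j, n, r⟩ := edges k m ad k' m' ad'
  rw [nc_cd] at n r
  rw [isN_cd] at n
  refine ⟨ku ^ i.1 * du ^ j.1, i, j, by simp [ku, du], ?_⟩
  generalize ku ^ i.1 * du ^ j.1 = g at n r
  simp only [Bool.or_eq_true, Bool.and_eq_true] at r
  have l1 := h.gen (H := Y.comap (MulAut.conj g).toMonoidHom) (fun t ht => h'.le _ ((n t).1 ht)) fun u hu => by
    rcases e u hu with rfl | rfl <;> rcases r with r | r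
    exacts [(rel_cd r.1 Y).1 hk', (rel_cd r.1 Y).1 hm', (rel_cd r.2 Y).1 hm', (rel_cd r.2 Y).1 hk']
  have l2 := h'.gen (H := X.comap (MulAut.conj g⁻¹).toMonoidHom) (fun t ht => h.le _ ((inv_mem n t).1 ht)) fun u hu => by
    rcases e' u hu with rfl | rfl <;> rcases r with r | r
    exacts [(rel_cd r.1 X).2 hk, (rel_cd r.2 X).2 hm, (rel_cd r.2 X).2 hm, (rel_cd r.1 X).2 hk]
  exact fun x => ⟨fun hx => by simpa using l2 hx, fun hx => by simpa [mul_assoc] using l1 hx⟩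

end Cfsg.Lib.SU4.G2
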