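import Cfsg.Agent.Lib.SU4.MK

/-! # S5210, `q = 2`: the kernel computation in `GL₄(2)` (codes of matrices as in Lib/SU4/MK) -/

set_option autoImplicit false

namespace Cfsg.Lib.SU4.G2

open MK

/-- `1` -/
def c0 : ℕ := 0x1000000000100000000010000000001
/-- `TM 0 1` -/
def c1 : ℕ := 0x1000000010100000000010001000101
/-- `TM 1 0` -/
def c2 : ℕ := 0x1000000000100000100010001010001
/-- `TM 1 1` -/
def c3 : ℕ := 0x1000000010100000100010001010101
/-- the six vertices -/
def os : List ℕ := [0x1000100010001010100000001010001, 0x100000101010100010001010100, 0x1010000010000000101000101000101,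
  0x1010000010000000001000101010101, 0x10100010001010001000101010000, 0x1010100000101010101010101000101]
/-- membership in `T` -/
def inT (c : ℕ) : Bool := c.beq c0 || c.beq c1 || c.beq c2 || c.beq c3
/-- `c t c⁻¹ ∈ T` -/
def nm (c t : ℕ) : Bool := (ml2 c t).beq (ml2 c0 c) || (ml2 c t).beq (ml2 c1 c) || (ml2 c t).beq (ml2 c2 c) || (ml2 c t).beq (ml2 c3 c)
/-- membership in `N(T)` -/
def isN (c : ℕ) : Bool := nm c c1 && nm c c2 && nm c c3
/-- square -/
def sq (c : ℕ) : ℕ := ml2 c c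
/-- cube -/
def p3 (c : ℕ) : ℕ := ml2 c (sq c)
/-- a `2`-element of `N(T) \ T` -/
def bad (c : ℕ) : Bool := isN c && (sq (sq c)).beq c0 && !inT c
/-- `c ^ 20160 ≠ 1` -/
def sing (c : ℕ) : Bool :=
  !(sq (sq (sq (sq (sq (sq (p3 (p3 (ml2 (ml2 c (sq (p3 c))) (sq (sq (ml2 c (sq (p3 c)))))))))))))).beq c0
/-- bad words in `a, b, T` -/
def bad2 (a b : ℕ) : Bool := bad (ml2 (sq (ml2 a b)) a) || bad (ml2 (ml2 a c2) (ml2 b (ml2 c2 a)))
/-- bad words in `g, T` -/
def bad1 (g : ℕ) : Bool := bad (p3 g) || bad (ml2 (ml2 (sq g) c2) (ml2 g (ml2 c1 g))) || bad (ml2 (ml2 g c1) (ml2 (p3 g) (ml2 c1 g))) ||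
  bad (ml2 (ml2 g c1) (ml2 (sq g) (ml2 c2 g))) || bad (ml2 (ml2 g c3) (ml2 (sq g) (ml2 c3 g))) || bad (ml2 (sq (ml2 g c2)) g)
/-- `g ∈ T o^±1` -/
def vx (g o : ℕ) : Bool := inT (ml2 g o) || inT (ml2 g (sq o))
/-- the check for `C(t)` -/
def cen (g t o o' : ℕ) : Bool := !(ml2 g t).beq (ml2 t g) || isN g || vx g o || vx g o' || bad1 g
/-- the check for `N(T)` -/
def nrm (g : ℕ) : Bool := !isN g || inT g || bad g || bad (p3 g) || os.all fun o => bad2 o (ml2 (ml2 g o) (sq g))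
/-- the check -/
def chk (g : ℕ) : Bool :=
  !((ml2 g c1).beq (ml2 c1 g) || (ml2 g c2).beq (ml2 c2 g) || (ml2 g c3).beq (ml2 c3 g) || nm g c1) || sing g ||
  (cen g c1 (os.getD 0 0) (os.getD 1 0) && cen g c2 (os.getD 2 0) (os.getD 3 0) && cen g c3 (os.getD 4 0) (os.getD 5 0) && nrm g)
/-- all codes -/
def allB : ℕ → ℕ → Bool
  | 0, a => chk a
  | n + 1, a => allB n (Nat.mul 256 a) && allB n (Nat.add 1 (Nat.mul 256 a))

theorem allB_sound : ∀ (l : List ℕ) (a : ℕ), allB l.length a = true → (∀ x ∈ l, x ≤ 1) → chk (l.foldl (fun a d => d + 256 * a) a) = true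
  | [], _, h, _ => h
  | d :: l, a, h, k => by
    rw [List.length_cons, allB, Bool.and_eq_true] at h
    refine allB_sound l _ ?_ fun x e => k x (by simp [e])
    rcases Nat.le_one_iff_eq_zero_or_eq_one.1 (k d (by simp)) with rfl | rfl
    · simpa using h.1
    · exact h.2

theorem all0 : allB 14 0 = true := by decide +kernel
theorem all1 : allB 14 1 = true := by decide +kernel
theorem all2 : allB 14 256 = true := by decide +kernel
theorem all3 : allB 14 257 = true := by decide +kernel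

theorem all16 : allB 16 0 = true := by
  rw [allB, allB, allB]
  exact (Bool.and_eq_true _ _).mpr ⟨(Bool.and_eq_true _ _).mpr ⟨all0, all1⟩, (Bool.and_eq_true _ _).mpr ⟨all2, all3⟩⟩

theorem chk_enc (A : Matrix (Fin 4) (Fin 4) (ZMod 2)) : chk (enc A) = true := by
  have e : ∀ l : List ℕ, pk l = l.reverse.foldl (fun a d => d + 256 * a) 0 := fun l => by
    rw [List.foldl_reverse]
    induction l with
    | nil => rfl
    | cons a l ih => rw [pk, ih]; rfl
  rw [enc, e]
  exact allB_sound _ _ all16 fun x hx => ls_all (P := (· ≤ 1)) (fun i j => Nat.le_of_lt_succ (ZMod.val_lt (A i j))) x (List.mem_reverse.1 hx)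

/-- the hexagon -/
def adj (a b : Fin 6) : Prop := (a, b) ∈ [(0, 2), (2, 5), (5, 1), (1, 3), (3, 4), (4, 0), (2, 0), (5, 2), (1, 5), (3, 1), (4, 3), (0, 4)]

instance decAdj (a b : Fin 6) : Decidable (adj a b) := by unfold adj; infer_instance

theorem pairs : ∀ a b : Fin 6, a = b ∨ adj a b ∨ bad2 (os.getD a 0) (os.getD b 0) = true := by decide +kernel

theorem no_tri : ∀ a b c : Fin 6, adj a b → adj c a → ¬ adj c b := by decide +kernel

/-- powers -/
def pw (c : ℕ) : ℕ → ℕ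
  | 0 => c0
  | n + 1 => ml2 (pw c n) c

/-- `n o_a n⁻¹ = o_b^±1` -/
def rel (n : ℕ) (a b : Fin 6) : Bool :=
  (ml2 n (os.getD a 0)).beq (ml2 (os.getD b 0) n) || (ml2 n (os.getD a 0)).beq (ml2 (sq (os.getD b 0)) n)

/-- `kaM ^ i * d3M ^ j` -/
def nc (i j : ℕ) : ℕ := ml2 (pw 0x1000000000100000000010001000001 i) (pw 0x1000000000101000001000000000001 j)

theorem edges : ∀ a b : Fin 6, adj a b → ∀ a' b' : Fin 6, adj a' b' → ∃ i : Fin 2, ∃ j : Fin 3, isN (nc i j) = true ∧
    ((rel (nc i j) a a' && rel (nc i j) b b') || (rel (nc i j) a b' && rel (nc i j) b a')) = true := by decide +kernel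

end Cfsg.Lib.SU4.G2
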