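import Cfsg.Agent.Lib.McR3.Model

/-!
# S5210, `q = 3`: explicit elements of `McL` (kernel computations; model on 275 points in Lib/McR3/Model, codes in Lib/Leech/Coded)
-/

set_option autoImplicit false
set_option maxRecDepth 100000

namespace Cfsg.Lib.SU4

open Subgroup Cfsg.Lib.Leech
open scoped commutatorElement

namespace WM

open Cfsg.Lib.Calc Cfsg.Lib.OutS.McL Cfsg.Lib.McR3

section
variable {G : Type*} [Group G]

theorem comm_mem {S : Set G} {z : G} (hz : ∀ s ∈ S, Commute s z) (h : ∀ s ∈ S, ∀ t ∈ S, ⁅s, t⁆ ∈ zpowers z) :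
    ∀ a ∈ closure S, ∀ b ∈ closure S, ⁅a, b⁆ ∈ zpowers z := by
  have hc : ∀ a ∈ closure S, ∀ y ∈ zpowers z, a * y * a⁻¹ ∈ zpowers z := fun a ha y hy => by
    have e : Commute a z := closure_induction (p := fun a _ => Commute a z) hz (Commute.one_left z)
      (fun _ _ _ _ p q => p.mul_left q) (fun _ _ p => p.inv_left) ha
    obtain ⟨n, rfl⟩ := mem_zpowers_iff.1 hy
    rwa [(e.zpow_right n).eq, mul_inv_cancel_right]
  have k : ∀ t, (∀ s ∈ S, ⁅s, t⁆ ∈ zpowers z) → ∀ a ∈ closure S, ⁅a, t⁆ ∈ zpowers z := fun t ht a ha => by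
    refine closure_induction (p := fun a _ => ⁅a, t⁆ ∈ zpowers z) ht (by simp) (fun x y hx _ p q => ?_) (fun x hx p => ?_) ha
    · have e : ⁅x * y, t⁆ = x * ⁅y, t⁆ * x⁻¹ * ⁅x, t⁆ := by simp only [commutatorElement_def]; group
      exact e ▸ mul_mem (hc x hx _ q) p
    · have e : ⁅x⁻¹, t⁆ = x⁻¹ * ⁅x, t⁆⁻¹ * x⁻¹⁻¹ := by simp only [commutatorElement_def]; group
      exact e ▸ hc _ (inv_mem hx) _ (inv_mem p)
  intro a ha b hb
  exact k b (fun s hs => by
    rw [← commutatorElement_inv]; exact inv_mem (k s (fun t ht => h t ht s hs) b hb)) a ha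

theorem card_three [Finite G] {x : G} (h : x ^ 3 = 1) : Nat.card (zpowers x) ≤ 3 := by
  rw [Nat.card_zpowers]; exact orderOf_le_of_pow_eq_one (by norm_num) h

theorem card_le [Finite G] {γ : ℕ → G} {B Z : Subgroup G} (h : ∀ a ∈ B, ∀ b ∈ B, ⁅a, b⁆ ∈ Z) (hZ : Z ≤ B) (ts : List W)
    (hl : ∀ t ∈ ts, t.ev γ ∈ B ∧ t.ev γ ^ 3 = 1) : Nat.card (Z ⊔ genW γ ts :) ≤ 3 ^ ts.length * Nat.card Z := by
  induction ts with
  | nil => rw [genW_nil, sup_bot_eq, List.length_nil, pow_zero, one_mul]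
  | cons t ts ih =>
    obtain ⟨⟨h1, h2⟩, h3⟩ := List.forall_mem_cons.1 hl
    have hK : Z ⊔ genW γ ts ≤ B := sup_le hZ (genW_le.2 fun s hs => (h3 s hs).1)
    have hN : zpowers (t.ev γ) ≤ normalizer ((Z ⊔ genW γ ts : Subgroup G) : Set G) := le_normalizer_iff.2 fun x hx k hk => by
      have e : x * k * x⁻¹ = ⁅x, k⁆ * k := by simp only [commutatorElement_def]; group
      exact e ▸ mul_mem (mem_sup_left (h x (zpowers_le.2 h1 hx) k (hK hk))) hk
    have e : Z ⊔ genW γ (t :: ts) ≤ zpowers (t.ev γ) ⊔ (Z ⊔ genW γ ts) :=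
      sup_le (le_sup_left.trans le_sup_right) (genW_le.2 (List.forall_mem_cons.2
        ⟨mem_sup_left (mem_zpowers _), fun s hs => mem_sup_right (mem_sup_right (mem_genW γ hs))⟩))
    refine (card_le_of_le e).trans ?_
    rw [← SetLike.coe_sort_coe, coe_mul_of_left_le_normalizer_right _ _ hN, List.length_cons, pow_succ', mul_assoc]
    exact Set.natCard_mul_le.trans (Nat.mul_le_mul (card_three h2) (ih h3))

end

attribute [local instance] act

/-- commutators of words -/
def cm (s t : W) : W := .mul (.mul (.mul s t) (.inv s)) (.inv t)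

/-- the word is trivial -/
noncomputable def ok (t : W) : Bool := net.baseOK 275 iv low t

theorem ev_one {t : W} (h : ok t = true) : t.ev gam = 1 := model.ev_eq_one_of_base t h

/-- the words have order three, commute with `z`, and commute modulo `z` -/
noncomputable def chk (z : W) (ts : List W) : Bool :=
  ts.all fun s => ok (.pow s 3) && ok (cm s z) && ts.all fun t => [0, 1, 2].any fun e => ok (.mul (cm s t) (.inv (.pow z e)))

theorem of_chk {z : W} {ts : List W} (h : chk z ts = true) : (∀ t ∈ ts, t.ev gam ^ 3 = 1) ∧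
    ∀ a ∈ genW gam ts, ∀ b ∈ genW gam ts, ⁅a, b⁆ ∈ zpowers (z.ev gam) := by
  simp only [chk, List.all_eq_true, Bool.and_eq_true, List.any_eq_true] at h
  refine ⟨fun t ht => ev_one (h t ht).1.1, comm_mem ?_ ?_⟩
  · rintro _ ⟨s, hs, rfl⟩
    exact commutatorElement_eq_one_iff_commute.1 (ev_one (h s hs).1.2)
  · rintro _ ⟨s, hs, rfl⟩ _ ⟨t, ht, rfl⟩
    obtain ⟨e, -, he⟩ := (h s hs).2 t ht
    have : ⁅s.ev gam, t.ev gam⁆ = z.ev gam ^ e := mul_inv_eq_one.1 (ev_one he)
    exact this ▸ pow_mem (mem_zpowers _) e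

theorem le_card {ts : List W} {l : List Low} (h : net.lowOK 275 iv l = true) (h' : (lowWords l).all (W.overW ts) = true) :
    lowOrd l ≤ Nat.card (genW gam ts) :=
  model.le_card h fun t ht => W.ev_mem_of_overW isLab.zero (fun _ h => mem_genW gam h) (List.all_eq_true.1 h' t ht)

theorem rep (t : W) : Rep 275 9 (finPt 275) (t.ev gam) (net.tab 275 9 iv t) :=
  netG.ok.rep_tab (by decide) (by decide) (by decide) isLab model.acts t

/-- a `3A` element -/
def a1 : W := wd [1, 1, 4, 4, 2, 2, 4, 2, 2, 4, 4, 2, 4, 1, 3, 1, 3]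
/-- a `3A` element -/
def a2 : W := wd [1, 1, 4, 1, 1, 3, 2, 4, 4, 4, 2, 4, 4, 1, 1, 3, 2, 2]
/-- generators of `3⁴` -/
def as : List W := [a1, a2, wd [2, 2, 3, 3, 1, 3, 2, 3, 3, 3, 1, 4, 4, 1], wd [2, 2, 2, 3, 3, 1, 1, 1, 3, 3, 2, 2, 3, 3, 3, 2]]
/-- a generator of `3^{1+4}` -/
def b1 : W := wd [2, 4, 4, 1, 4, 2, 3, 1, 1, 4, 1, 1, 3, 1, 1]
/-- a generator of `3^{1+4}` -/
def b2 : W := wd [3, 1, 3, 1, 1, 1, 1, 3, 3, 1, 3, 1, 3, 2, 3]
/-- a generator of `3^{1+4}` -/
def b3 : W := wd [3, 2, 2, 2, 4, 4, 4, 1, 1, 3, 3, 2, 2, 3, 1, 1]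
/-- a generator of `3^{1+4}` -/
def b4 : W := wd [1, 3, 1, 1, 4, 2, 4, 4, 1, 4, 1, 3, 2, 3, 3, 3, 1]
/-- normal forms in `3^{1+4}` -/
def nf (i j k l m : ℕ) : W := .mul (.pow a1 i) (.mul (.pow b1 j) (.mul (.pow b2 k) (.mul (.pow b3 l) (.pow b4 m))))
/-- an element of order five -/
def g5 : W := wd [3, 1, 1, 4, 1, 3, 2, 2, 4, 4, 1, 3]

theorem chkA : chk (.l 0) as = true := by decide +kernel
theorem chkB : chk a1 [a1, b1, b2, b3, b4] = true := by decide +kernel

theorem comm_A : ∀ a ∈ genW gam as, ∀ b ∈ genW gam as, ⁅a, b⁆ ∈ (⊥ : Subgroup mcl) := by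
  have := (of_chk chkA).2
  rwa [show (W.l 0).ev gam = 1 from isLab.zero, zpowers_one_eq_bot] at this

theorem card_A : Nat.card (genW gam as) = 81 := by
  have := model.finite
  have h := card_le comm_A bot_le as fun t ht => ⟨mem_genW gam ht, (of_chk chkA).1 t ht⟩
  rw [bot_sup_eq, card_bot] at h
  exact le_antisymm h (le_card (l := [⟨11, as, 2, 81⟩]) (by decide +kernel) (by decide +kernel))

theorem mul_A : ∀ a ∈ genW gam as, ∀ b ∈ genW gam as, a * b = b * a := fun a ha b hb =>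
  commutatorElement_eq_one_iff_mul_comm.1 (mem_bot.1 (comm_A a ha b hb))

theorem card_B : Nat.card (genW gam [a1, b1, b2, b3, b4]) = 243 := by
  have := model.finite
  have k := of_chk chkB
  have h := card_le k.2 (zpowers_le.2 (mem_genW gam List.mem_cons_self)) [b1, b2, b3, b4] fun t ht =>
    ⟨mem_genW gam (List.mem_cons_of_mem _ ht), k.1 t (List.mem_cons_of_mem _ ht)⟩
  refine le_antisymm ((card_le_of_le (genW_le.2 (List.forall_mem_cons.2 ⟨mem_sup_left (mem_zpowers _), fun s hs =>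
    mem_sup_right (mem_genW gam hs)⟩))).trans (h.trans (Nat.mul_le_mul_left _ (card_three (k.1 _ List.mem_cons_self)))))
    (le_card (l := [⟨0, [a1, b1, b2, b3, b4], 2, 27⟩, ⟨2, [b3, nf 0 1 1 1 2], 2, 9⟩]) (by decide +kernel) (by decide +kernel))

theorem sub_hh : u43.subgroupOf mcl = HH := by
  have := model.finite
  have e : OutS.ptV vecs 52 = (vXA : L2) := code2_injective (by
    rw [code2_mk, code_vXA]; exact (exists_code2 (get_lt 24 vecs 52)).choose_spec.trans (by decide +kernel))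
  have k := Subgroup.subgroupOfEquivOfLe (inf_le_left : u43 ≤ mcl)
  exact Subgroup.eq_of_le_of_card_ge (fun g hg => Fin.ext (by
      refine netG.inj _ (Fin.is_lt _) 52 (by decide) ((rho_spec g (pt 52)).symm.trans ?_)
      change (g : Co0) • OutS.ptV vecs 52 = _
      rw [e, smul_mk, show (g : Co0) • vXA = vXA from hg.2]))
    (by rw [card_hh, Nat.card_congr k.toEquiv, card_u43])

theorem mem_u43 (g : mcl) : g.1 ∈ u43 ↔ g • pt 52 = pt 52 := by
  rw [← mem_subgroupOf, sub_hh, MulAction.mem_stabilizer_iff]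

theorem fix_two : (forceB (net.tab 275 9 iv a1) fun S => forceB (net.tab 275 9 iv a2) fun T => allBig 275 fun j =>
    !(Nat.beq (get 9 S j) j && Nat.beq (get 9 T j) j) || Nat.beq j 52 || Nat.beq j 4) = true := by decide +kernel

/-- an involution of the points normalising the group -/
def piv : ℕ := nat_lit 0x271e0d782b85887d5ea1d2880569de1efc523ce0300462adcb047d9d9da924b2e546e88131d61113f2ddf2e275ab0f6f4681f1fa9b57bb21ccf6937944bc601fd82b3882c512d16537da8e7701c50cba5034d6a8b79309650d5c319b2db409ea16dc54b31ecc377295929d6c315acf171aa20eea7f24576ae472296d037ab74e4cb499d5691272268f278383dd2b094fbe1547346a9d1eff64299aa88853350a843a2097f086d3be18e674af93298833e93c83482859c97061144a2728190b61f2e884146a2a1306e4a1e020ce0e3483c82420814846630a9580e6b0b8644062121803a2b058fcdc1a0f160b230230d4025f0e0244c12308b87c040d8082c40148d80c11240345e13360e4da4b2a80ccc4d3410c923b199109c14278c4a618140e058572d170546f23994745e288b40034110c87a05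

theorem piv_ok : (allBig 275 fun j => blt (get 9 piv j) 275 && Nat.beq (get 9 piv (get 9 piv j)) j) = true := by decide +kernel

theorem piv_spec {j : ℕ} (hj : j < 275) : get 9 piv j < 275 ∧ get 9 piv (get 9 piv j) = j := by
  have := allBig_iff.1 piv_ok j hj
  rwa [Bool.and_eq_true, blt_iff, beq_iff] at this

/-- the involution as a permutation -/
def P : Equiv.Perm (Fin 275) :=
  Function.Involutive.toPerm (fun j => ⟨get 9 piv j, (piv_spec j.2).1⟩) fun j => Fin.ext (piv_spec j.2).2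

theorem P_mul : P * P = 1 := Equiv.ext fun j => Fin.ext (piv_spec j.2).2

/-- conjugation by the involution maps `s` to `t` -/
noncomputable def cj (s t : W) : Bool :=
  forceB (net.tab 275 9 iv s) fun S => forceB (net.tab 275 9 iv t) fun T => allBig 275 fun j =>
    Nat.beq (get 9 T j) (get 9 piv (get 9 S (get 9 piv j)))

theorem rho_val (t : W) (j : Fin 275) : (rho (t.ev gam) j : ℕ) = get 9 (net.tab 275 9 iv t) j := by
  have h := (rep t).2 j j.2
  rw [show finPt 275 j = j from Fin.ext (finPt_val _ j.2)] at h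
  rw [← finPt_val 275 h.1, ← h.2]; rfl

theorem of_cj {s t : W} (h : cj s t = true) : rho (t.ev gam) = P * rho (s.ev gam) * P := Equiv.ext fun j => Fin.ext <| by
  rw [cj, forceB_eq, forceB_eq, allBig_iff] at h
  rw [rho_val, beq_iff.1 (h j j.2)]
  change _ = get 9 piv (rho (s.ev gam) (P j))
  rw [rho_val]; rfl

/-- the image of the first generator -/
def w1 : W := wd [3, 1, 4, 4, 1, 4, 2, 4, 2, 2, 3, 2, 2, 3, 2]
/-- the image of the second generator -/
def w3 : W := wd [3, 1, 1, 3, 3, 3, 3, 1, 4, 4, 4, 4, 4, 1, 3]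

theorem exists_aut : ∃ φ : MulAut mcl, ∀ g, rho (φ g) = P * rho g * P := by
  have e : ∀ x, P * (P * x * P) * P = x := fun x => by
    rw [← mul_assoc, ← mul_assoc, P_mul, one_mul, mul_assoc, P_mul, mul_one]
  have m : ∀ x y, P * (x * y) * P = P * x * P * (P * y * P) := fun x y => by
    rw [show P * x * P * (P * y * P) = P * x * (P * P) * y * P by simp only [mul_assoc], P_mul, mul_one, mul_assoc P x y]
  have : ∀ g, ∃ h, rho h = P * rho g * P := fun g => by
    refine closure_induction (p := fun g _ => ∃ h, rho h = P * rho g * P) ?_ ⟨1, by rw [map_one, mul_one, P_mul]⟩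
      (fun x y _ _ ⟨a, p⟩ ⟨b, q⟩ => ⟨a * b, by rw [map_mul, map_mul, m, p, q]⟩)
      (fun x _ ⟨a, p⟩ => ⟨a⁻¹, by
        rw [map_inv, p, inv_eq_iff_mul_eq_one, ← m, ← map_mul, mul_inv_cancel, map_one, mul_one, P_mul]⟩) (top_eq.ge (mem_top g))
    rintro _ ⟨t, ht, rfl⟩
    simp only [List.mem_cons, List.not_mem_nil, or_false] at ht
    rcases ht with rfl | rfl | rfl | rfl
    exacts [⟨_, of_cj (t := w1) (by decide +kernel)⟩, ⟨_, of_cj (t := .inv w1) (by decide +kernel)⟩,
      ⟨_, of_cj (t := w3) (by decide +kernel)⟩, ⟨_, of_cj (t := .inv w3) (by decide +kernel)⟩]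
  choose f hf using this
  have i : ∀ g, f (f g) = g := fun g => rho_injective (by rw [hf, hf, e])
  exact ⟨⟨⟨f, f, i, i⟩, fun x y => rho_injective (by change rho (f _) = rho (f x * f y); rw [map_mul, hf, hf, hf, map_mul, m])⟩, hf⟩

end WM

open Cfsg.Lib.Calc Cfsg.Lib.OutS.McL Cfsg.Lib.McR3 WM

attribute [local instance] act

/-- `B = O₃(N(z)) = 3^{1+4}` (`z` of class `3A`, five fixed points) and an element of order five of `C(z) = 3^{1+4}.SL₂(5)` -/
theorem wit_o5 : ∃ (B : Subgroup mcl) (z g : mcl), Nat.card B = 243 ∧ z ^ 3 = 1 ∧ (∀ a ∈ B, ∀ b ∈ B, ⁅a, b⁆ ∈ zpowers z) ∧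
    g ∈ normalizer (B : Set mcl) ∧ g ^ 5 = 1 ∧ g ∉ centralizer (B : Set mcl) := by
  have := model.finite
  have k := of_chk chkB
  refine ⟨genW gam [a1, b1, b2, b3, b4], a1.ev gam, g5.ev gam, card_B, k.1 _ List.mem_cons_self, k.2,
    mem_normalizer_fintype fun n hn => ?_, ev_one (t := .pow g5 5) (by decide +kernel), fun h => ?_⟩
  · refine (genW_le (H := (genW gam [a1, b1, b2, b3, b4]).comap (MulAut.conj (g5.ev gam)).toMonoidHom)).2 ?_ hn
    have c : ∀ s t : W, ok (.mul (.mul (.mul g5 s) (.inv g5)) (.inv t)) = true → t.overW [a1, b1, b2, b3, b4] = true →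
        s.ev gam ∈ (genW gam [a1, b1, b2, b3, b4]).comap (MulAut.conj (g5.ev gam)).toMonoidHom := fun s t p q => by
      have e : g5.ev gam * s.ev gam * (g5.ev gam)⁻¹ = t.ev gam := mul_inv_eq_one.1 (ev_one p)
      change g5.ev gam * s.ev gam * (g5.ev gam)⁻¹ ∈ genW gam _
      exact e ▸ W.ev_mem_of_overW isLab.zero (fun _ h => mem_genW gam h) q
    simp only [List.forall_mem_cons, List.not_mem_nil, false_imp_iff, implies_true, and_true]
    exact ⟨c _ a1 (by decide +kernel) (by decide +kernel), c _ (nf 1 1 1 2 2) (by decide +kernel) (by decide +kernel),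
      c _ (nf 1 1 1 1 2) (by decide +kernel) (by decide +kernel), c _ (nf 1 0 2 0 2) (by decide +kernel) (by decide +kernel),
      c _ (nf 2 2 2 2 0) (by decide +kernel) (by decide +kernel)⟩
  · exact model.ev_ne_one (cm g5 b1) 0 1 (by decide +kernel) (by decide) (commutatorElement_eq_one_iff_mul_comm.2
      (mem_centralizer_iff.1 h _ (mem_genW gam (List.mem_cons_of_mem _ List.mem_cons_self))).symm)

/-- an elementary abelian subgroup of order `81` has only two fixed points on the 275 cosets of `u43` (`McR3.HH`, proof of `McR3.iso_psu`) -/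
theorem wit_fix : ∃ A : Subgroup mcl, Nat.card A = 81 ∧ (∀ a ∈ A, ∀ b ∈ A, a * b = b * a) ∧
    ∃ x y : mcl, ∀ g : mcl, (∀ a ∈ A, (g⁻¹ * a * g).1 ∈ u43) → (x⁻¹ * g).1 ∈ u43 ∨ (y⁻¹ * g).1 ∈ u43 := by
  refine ⟨genW gam as, card_A, mul_A, 1, (wd [4, 1, 1, 4, 2]).ev gam, fun g h => ?_⟩
  have k : ∀ t ∈ as, get 9 (net.tab 275 9 iv t) (g • pt 52 :) = (g • pt 52 :) := fun t ht => by
    have e := (mem_u43 _).1 (h _ (mem_genW gam ht))
    rw [mul_smul, mul_smul, inv_smul_eq_iff] at e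
    rw [← rho_val]; exact congrArg Fin.val e
  have e := fix_two
  rw [forceB_eq, forceB_eq, allBig_iff] at e
  have e := e _ (g • pt 52).2
  rw [k a1 List.mem_cons_self, k a2 (List.mem_cons_of_mem _ List.mem_cons_self)] at e
  simp only [Nat.beq_refl, Bool.and_self, Bool.not_true, Bool.false_or, Bool.or_eq_true, beq_iff] at e
  rw [mem_u43, mem_u43, inv_one, one_mul, mul_smul, inv_smul_eq_iff, model.smul_eq _ 52 4 (by decide +kernel)]
  exact e.imp Fin.ext Fin.ext

/-- `N(3⁴) = 3⁴ : (M₁₀ × 2)` in `McL.2`: for instance conjugation by an involution `σ ∈ co3` with `σ • leechU = -leechV - leechU` -/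
theorem wit_aut : ∃ A : Subgroup mcl, Nat.card A = 81 ∧ (∀ a ∈ A, ∀ b ∈ A, a * b = b * a) ∧
    ∃ φ : MulAut mcl, φ * φ = 1 ∧ ∀ a ∈ A, φ a = a⁻¹ := by
  obtain ⟨φ, h⟩ := exists_aut
  refine ⟨genW gam as, card_A, mul_A, φ, MulEquiv.ext fun g => rho_injective ?_, fun a ha => ?_⟩
  · rw [MulAut.mul_apply, h, h, ← mul_assoc, ← mul_assoc, P_mul, one_mul, mul_assoc, P_mul, mul_one]; rfl
  · refine closure_induction (p := fun a _ => φ a = a⁻¹) ?_ (by rw [map_one, inv_one])
      (fun x y hx hy p q => by rw [map_mul, p, q, mul_A x hx y hy, mul_inv_rev]) (fun x _ p => by rw [map_inv, p]) ha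
    rintro _ ⟨t, ht, rfl⟩
    exact rho_injective ((h _).trans (of_cj (t := .inv t)
      (List.all_eq_true.1 (by decide +kernel : (as.all fun t => cj t (.inv t)) = true) t ht)).symm)

end Cfsg.Lib.SU4
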